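import Cfsg.Agent.Lib.Leech.OutOne.Cert

/-!
The checks for the simple quotient.
-/

set_option autoImplicit false
set_option Elab.async false
set_option maxRecDepth 100000
set_option maxHeartbeats 4000000

namespace CfsgLib.Leech.OutOne

theorem one_base : baseOK = true := by decide +kernel

theorem one_goals : goalsOK = true := by decide +kernel

theorem one_fix : fixOK = true := by decide +kernel

theorem one_inv : invOK = true := by decide +kernel

theorem one_seps : sepsOK = true := by decide +kernel

theorem one_prog : progOK = true := by decide +kernel

end CfsgLib.Leech.OutOne
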