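import Cfsg.Agent.Lib.Leech.OutOne.Cent
import Cfsg.Agent.Lib.Leech.OutPair.Core
import Cfsg.Agent.Lib.Leech.CrossMaximal

/-!
Every automorphism of the simple quotient of the isometry group is inner.
-/

set_option autoImplicit false
set_option maxRecDepth 10000
set_option linter.style.haveILetI false

namespace CfsgLib.Leech.OutOne

open Cfsg CfsgLib.Golay CfsgLib.Leech CfsgLib.Leech.Mult CfsgLib.Leech.OutStab CfsgLib.Golay.AutTwo
open scoped Pointwise

attribute [local irreducible] dL bL key keyL coord packB linL bits autOK tAt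

theorem exp_reduce : ∀ r : Fin 23, r.val ≠ 0 → ∃ t : Fin 11,
    r.val * 12 ^ t.val % 23 = 1 ∨ r.val * 12 ^ t.val % 23 = 22 := by decide +kernel

/-- the finite case distinction, in an abstract group -/
theorem fin_of_seps {G : Type*} [Group G] (X Y Z : G) (C : ℕ → ℕ → ℕ → G) (hxo : orderOf X = 23)
    (hYX : Y * X = X ^ 12 * Y) (hZY : Z * Y = Y * Z)
    (hcent : ∀ w : G, w * Y = Y * w → ∃ i < 3, ∃ s < 2, ∃ j < 11, w = C i s j)
    (hsep : ∀ ki < 2, ∀ i < 3, ∀ s < 2, ∀ j < 11, (kk ki = 1 ∧ C i s j = Z) ∨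
      ∃ (w : List ℕ) (n : ℕ), ((w.map fun a => X ^ a * Z).prod) ^ n = 1 ∧
        ((w.map fun a => (X ^ kk ki) ^ a * C i s j).prod) ^ n ≠ 1)
    (φ : MulAut G) (k : ℕ) (hk : ¬ 23 ∣ k) (hy : φ Y = Y) (hx : φ X = X ^ k) :
    ∃ g : G, (MulAut.conj g * φ) Z = Z ∧ (MulAut.conj g * φ) X = X := by
  have hφU : φ Z * Y = Y * φ Z := by
    have := congrArg φ hZY
    rwa [map_mul, map_mul, hy] at this
  obtain ⟨i, hi, s, hs, j, hj, hab⟩ := hcent (φ Z) hφU
  obtain ⟨t, ht⟩ := exp_reduce ⟨k % 23, Nat.mod_lt _ (by norm_num)⟩ fun h0 => hk (Nat.dvd_of_mod_eq_zero h0)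
  have hYp : ∀ t : ℕ, SemiconjBy (Y ^ t) X (X ^ 12 ^ t) := by
    intro t
    induction t with
    | zero => simp [SemiconjBy]
    | succ t ih =>
      rw [pow_succ' Y]
      have h1 : SemiconjBy Y X (X ^ 12) := hYX
      have h2 : SemiconjBy Y (X ^ 12 ^ t) (X ^ 12 ^ (t + 1)) := by
        rw [pow_succ', pow_mul]; exact h1.pow_right (12 ^ t)
      exact h2.mul_left ih
  set ψ := MulAut.conj (Y ^ t.val) * φ with hψ
  have e1 : ψ X = X ^ (k % 23 * 12 ^ t.val % 23) := by
    rw [hψ, MulAut.mul_apply, MulAut.conj_apply, hx, ((hYp t.val).pow_right k).eq, mul_inv_cancel_right,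
      ← pow_mul, ← pow_mod_orderOf, hxo]
    congr 1
    rw [mul_comm, Nat.mod_mul_mod]
  have hψU : ψ Z = C i s j := by
    rw [hψ, MulAut.mul_apply, MulAut.conj_apply,
      ((show Commute (φ Z) Y from hφU).pow_right t.val).eq.symm, mul_inv_cancel_right, hab]
  obtain ⟨ki, hki, hψx⟩ : ∃ ki < 2, ψ X = X ^ kk ki := by
    dsimp only at ht
    rcases ht with ht | ht
    · exact ⟨0, by norm_num, by rw [e1, ht]; rfl⟩
    · exact ⟨1, by norm_num, by rw [e1, ht]; rfl⟩
  refine ⟨Y ^ t.val, ?_⟩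
  rw [← hψ]
  rcases hsep ki hki i hi s hs j hj with ⟨h1, h2⟩ | ⟨w, n, hw1, hw2⟩
  · exact ⟨hψU.trans h2, by rw [hψx, h1, pow_one]⟩
  · refine absurd ?_ hw2
    have := congrArg ψ hw1
    rw [map_pow, map_one, map_list_prod, List.map_map] at this
    rw [← this]
    congr 2
    exact List.map_congr_left fun a _ => by simp [Function.comp, hψx, hψU]

theorem pr_word (x c : ↥Co0) (w : List ℕ) :
    pr (w.map fun a => x ^ a * c).prod = (w.map fun a => pr x ^ a * pr c).prod := by
  rw [map_list_prod, List.map_map]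
  exact congrArg List.prod (List.map_congr_left fun a _ => by simp [Function.comp])

variable (hb : baseOK = true) (hi : invOK = true) (hf : fixOK = true)

/-- the candidates -/
noncomputable def cand (i s j : ℕ) : ↥Co0 := gU hb i * (if s = 0 then 1 else gD hb) * seed11 ^ j

include hb in
theorem rep_cand (i s j : ℕ) : Rep0 (cand hb i s j) (cTab i s j) := by
  refine ((rep_gU hb i).mul ?_).mul (rep_seed11.pow j)
  split_ifs
  exacts [rep0_one, rep_gD hb]

include hb in
theorem pr_cand {i s j : ℕ} (hs : s < 2) :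
    pr (cand hb i s j) = pr (gU hb i) * pr (gD hb) ^ s * pr seed11 ^ j := by
  rw [cand, map_mul, map_mul, map_pow]
  interval_cases s <;> simp

include hb in
theorem rels : pr seed11 * pr seed = pr seed ^ 12 * pr seed11 ∧ orderOf (pr seed) = 23 ∧
    pr (gH hb) * pr seed11 = pr seed11 * pr (gH hb) := by
  obtain ⟨h1, h2, -⟩ := base_facts hb
  refine ⟨?_, ?_, ?_⟩
  · rw [← map_mul, ← map_pow, ← map_mul]
    exact pr_eq_of_rep (rep_seed11.mul rep_seed) (h1.symm ▸ (rep_seed.pow 12).mul rep_seed11)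
  · haveI : Fact (Nat.Prime 23) := ⟨by norm_num⟩
    refine orderOf_eq_prime (gens_pow hb).1 fun h => ?_
    exact pr_ne_of_rep rep_seed rep0_one (by decide +kernel) (h.trans (map_one pr).symm)
  · rw [← map_mul, ← map_mul]
    exact pr_eq_of_rep ((rep_gH hb).mul rep_seed11) (h2.symm ▸ rep_seed11.mul (rep_gH hb))

include hb in
theorem sep_spec (hsep : sepsOK = true) : ∀ ki < 2, ∀ i < 3, ∀ s < 2, ∀ j < 11,
    (kk ki = 1 ∧ pr (cand hb i s j) = pr (gH hb)) ∨ ∃ (w : List ℕ) (n : ℕ),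
      ((w.map fun a => pr seed ^ a * pr (gH hb)).prod) ^ n = 1 ∧
      ((w.map fun a => (pr seed ^ kk ki) ^ a * pr (cand hb i s j)).prod) ^ n ≠ 1 := by
  intro ki hki i hi s hs j hj
  simp only [sepsOK, List.all_eq_true, List.mem_range] at hsep
  have h := hsep ki hki i hi s hs j hj
  simp only [sepAt, Bool.or_eq_true, Bool.and_eq_true, beq_iff_eq] at h
  rcases h with ⟨⟨⟨h0, h1⟩, h2⟩, h3⟩ | ⟨hw1, hw2⟩
  · subst h0 h1 h2 h3
    refine Or.inl ⟨rfl, ?_⟩
    simp [cand, gU]
  · refine Or.inr ⟨(oneSeps.getD (((ki * 3 + i) * 2 + s) * 11 + j) ([], 0)).1,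
      (oneSeps.getD (((ki * 3 + i) * 2 + s) * 11 + j) ([], 0)).2, ?_, fun he => ?_⟩
    · rw [← pr_word, ← map_pow, ← map_one pr]
      exact pr_eq_of_rep ((rep_seed.word (rep_gH hb) _).pow _) (hw1.symm ▸ rep0_one)
    · rw [← map_pow, ← pr_word, ← map_pow, ← map_one pr] at he
      exact pr_ne_of_rep (((rep_seed.pow _).word (rep_cand hb i s j) _).pow _) rep0_one hw2 he

include hb in
theorem slp_mem0 (K : Subgroup ↥Co0) (hs : seed ∈ K) (hh : gH hb ∈ K) (hp : progOK = true) :
    ∀ i < oneLen, ∃ g ∈ K, Rep0 g (tAt i) := by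
  simp only [progOK, Bool.and_eq_true, beq_iff_eq] at hp
  intro i
  induction i using Nat.strong_induction_on with
  | _ i ih =>
    intro hi
    match i with
    | 0 => exact ⟨_, hs, hp.1.1.2 ▸ rep_seed⟩
    | 1 => exact ⟨_, hh, hp.1.2 ▸ rep_gH hb⟩
    | n + 2 =>
      have hn : n < oneProg.length := by omega
      have h := List.all_eq_true.1 hp.2 (n, oneProg[n]) (List.mem_iff_getElem.2
        ⟨n, by simpa [List.length_zip] using hn, by simp⟩)
      simp only [Bool.and_eq_true, decide_eq_true_eq, beq_iff_eq] at h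
      obtain ⟨g, hg, hgr⟩ := ih _ h.1.1 (by omega)
      obtain ⟨g', hg', hgr'⟩ := ih _ h.1.2 (by omega)
      exact ⟨g * g', mul_mem hg hg', h.2 ▸ hgr.mul hgr'⟩

theorem sign_all {K : Subgroup ↥Co0} (hperm : ∀ {σ : Equiv.Perm GolayPt} (hσ : σ ∈ M24), mono hσ empty_mem_CS ∈ K)
    {r : ℕ} (hr : dec r ∈ octads) (hr' : mono (one_mem M24) (octad_CS hr) ∈ K)
    {d : Finset GolayPt} (hd : d ∈ CS) : mono (one_mem M24) hd ∈ K := by
  have hoct : ∀ {o : Finset GolayPt} (ho : o ∈ octads), mono (one_mem M24) (octad_CS ho) ∈ K := by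
    intro o ho2
    obtain ⟨k, hk⟩ := octad_transitive hr ho2
    have hk' : (k.1⁻¹)⁻¹ • dec r = o := by rw [inv_inv]; exact hk
    have he' : (k.1⁻¹)⁻¹ • dec r ∈ CS := hk'.symm ▸ octad_CS ho2
    have h1 := mul_mem (mul_mem (hperm (inv_mem k.2)) hr') (inv_mem (hperm (inv_mem k.2)))
    rw [mono_mul_sign (inv_mem k.2) empty_mem_CS (octad_CS hr) he', mul_inv_cancel_right] at h1
    rwa [mono_set_congr (one_mem M24) he' (octad_CS ho2) hk'] at h1
  have hcomb : ∀ (l : List ℕ), (∀ r ∈ l, dec r ∈ octads) → ∀ m : ℕ,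
      ∃ hc : dec (comb l m) ∈ CS, mono (one_mem M24) hc ∈ K := by
    intro l
    induction l with
    | nil =>
      intro _ m
      have e : dec (comb [] m) = ∅ := by ext p; simp [comb, mem_dec]
      refine ⟨e.symm ▸ empty_mem_CS, ?_⟩
      rw [mono_set_congr (one_mem M24) _ empty_mem_CS e, ← one_eq_mono]
      exact one_mem K
    | cons r rs ih =>
      intro hl m
      obtain ⟨hc, hm⟩ := ih (fun a ha => hl a (List.mem_cons_of_mem _ ha)) (m / 2)
      have hr := hl r List.mem_cons_self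
      by_cases hm2 : m % 2 = 1
      · have e : dec (comb (r :: rs) m) = symmDiff (dec r) (dec (comb rs (m / 2))) := by
          rw [comb, if_pos hm2, dec_xor]
        refine ⟨e.symm ▸ symmDiff_mem_supports (octad_CS hr) hc, ?_⟩
        rw [mono_set_congr (one_mem M24) _ (symmDiff_mem_supports (octad_CS hr) hc) e, ← sign_mul (octad_CS hr) hc]
        exact mul_mem (hoct hr) hm
      · have e : dec (comb (r :: rs) m) = dec (comb rs (m / 2)) := by
          rw [comb, if_neg hm2, Nat.zero_xor]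
        exact ⟨e.symm ▸ hc, by rwa [mono_set_congr (one_mem M24) _ hc e]⟩
  obtain ⟨m, hm, rfl⟩ := mem_supports_codeList.1 hd
  have hrows : comb rows m = m := by
    have := inC_iff_mem_codeList.2 hm
    simpa [inC] using this
  obtain ⟨hc, hmem⟩ := hcomb rows row_octad m
  rwa [mono_set_congr (one_mem M24) hd hc (by rw [hrows])]

include hb in
theorem generated (hp : progOK = true) (hg : goalsOK = true) :
    Subgroup.closure {pr seed, pr (gH hb)} = ⊤ := by
  set K : Subgroup ↥Co0 := (Subgroup.closure {pr seed, pr (gH hb)}).comap pr with hK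
  have hs : seed ∈ K := Subgroup.subset_closure (Or.inl rfl)
  have hh : gH hb ∈ K := Subgroup.subset_closure (Or.inr rfl)
  have hslp := slp_mem0 hb K hs hh hp
  have hrep : ∀ {g : ↥Co0} {i : ℕ}, i < oneLen → Rep0 g (tAt i) → g ∈ K := by
    intro g i hi hgr
    obtain ⟨g', hg', hgr'⟩ := hslp i hi
    rw [hK, Subgroup.mem_comap] at hg' ⊢
    rwa [pr_eq_of_rep hgr hgr']
  simp only [goalsOK, Bool.and_eq_true, decide_eq_true_eq, beq_iff_eq] at hg
  obtain ⟨⟨⟨⟨⟨⟨⟨l1, l2⟩, l3⟩, m1⟩, m2⟩, g1⟩, g2⟩, g3⟩ := hg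
  have hperm : ∀ {σ : Equiv.Perm GolayPt} (hσ : σ ∈ M24), mono hσ empty_mem_CS ∈ K := by
    have hle : M24 ≤ (K.comap m24Hom).map M24.subtype := by
      conv_lhs => rw [← closure_eq_M24]
      rw [Subgroup.closure_le]
      have hmem : ∀ {σ : Equiv.Perm GolayPt} (hσ : σ ∈ M24), mono hσ empty_mem_CS ∈ K →
          σ ∈ (K.comap m24Hom).map M24.subtype := fun {σ} hσ h => by
        refine inv_mem_iff.1 ⟨⟨σ⁻¹, inv_mem hσ⟩, ?_, rfl⟩
        rw [SetLike.mem_coe, Subgroup.mem_comap, m24Hom_inv hσ]; exact h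
      rintro g (rfl | rfl | rfl)
      · exact hmem shiftσ_mem hs
      · exact hmem projInv_mem (hrep l1 (g1 ▸ rep_nil m1 projInv_eq.symm _))
      · exact hmem cubeTwist_mem (hrep l2 (g2 ▸ rep_nil m2 cubeTwist_eq.symm _))
    intro σ hσ
    obtain ⟨⟨τ, hτ⟩, hmem, he⟩ := hle (inv_mem hσ)
    have : (⟨τ, hτ⟩ : ↥M24) = ⟨σ⁻¹, inv_mem hσ⟩ := Subtype.ext he
    rw [this, SetLike.mem_coe, Subgroup.mem_comap, m24Hom_inv hσ] at hmem
    exact hmem
  have hoct : dec 13062145 ∈ octads := row_octad _ (by simp [rows])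
  have hr' : mono (one_mem M24) (octad_CS hoct) ∈ K :=
    hrep l3 (g3 ▸ rep_sign (by decide +kernel) _)
  have hcross : crossStab ≤ K := by
    intro y hy
    obtain ⟨σ, d, hσ, hd, rfl⟩ := crossStab_eq_mono hy
    rw [mono_eq_sign_mul]
    exact mul_mem (sign_all hperm hoct hr' hd) (hperm hσ)
  have hne : crossStab ≠ K := by
    intro e
    have h3 : act (gH hb) (mainK 3) = mainK 3 := mem_crossStab.1 (e ▸ hh)
    rw [rep_gH hb _ (mainK_lt 3), key_e8L] at h3
    exact (base_facts hb).2.2.2.2.1 h3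
  have hKtop := crossStab_maximal.2 K (lt_of_le_of_ne hcross hne)
  rw [← Subgroup.map_comap_eq_self_of_surjective (QuotientGroup.mk'_surjective _)
    (Subgroup.closure {pr seed, pr (gH hb)}), ← hK, hKtop,
    Subgroup.map_top_of_surjective _ (QuotientGroup.mk'_surjective _)]

include hb hi hf in
/-- Every automorphism is inner. -/
theorem card_out (hsep : sepsOK = true) (hp : progOK = true) (hg : goalsOK = true) :
    Nat.card (Cfsg.Out Q) = 1 := by
  haveI := finite_Co0
  haveI : Fact (Nat.Prime 23) := ⟨by norm_num⟩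
  obtain ⟨hYX, hxo, hZY⟩ := rels hb
  have hcard : Nat.card Q = 23 * 180772904632320000 := by
    have h := Subgroup.card_eq_card_quotient_mul_card_subgroup (Subgroup.center ↥Co0)
    rw [natCard_Co0, natCard_center] at h
    show Nat.card (↥Co0 ⧸ Subgroup.center ↥Co0) = _
    omega
  have hgen := generated hb hp hg
  have hall : ∀ φ : MulAut Q, φ ∈ Cfsg.Inn Q := by
    intro φ
    obtain ⟨g, h⟩ := OutPair.exists_pair_form (pr seed) (pr seed11) (pr (gH hb)) (pr (gH hb)) hcard
      (by norm_num) hxo (cent_X hb hi) 12 hYX (by norm_num) (by norm_num) 1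
      (fun ψ k hk hy hx => by
        obtain ⟨g, h1, h2⟩ := fin_of_seps (pr seed) (pr seed11) (pr (gH hb))
          (fun i s j => pr (cand hb i s j)) hxo hYX hZY
          (fun w hw => by
            obtain ⟨i, hi3, s, hs, j, hj, h⟩ := cent_Y hb hi hf w hw
            exact ⟨i, hi3, s, hs, j, hj, h.trans (pr_cand hb hs).symm⟩)
          (sep_spec hb hsep) ψ k hk hy hx
        exact ⟨g, Or.inl ⟨h1, h2⟩⟩) φ
    rw [pow_one, or_self] at h
    have he : MulAut.conj g * φ = 1 := by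
      have h' := MonoidHom.eq_of_eqOn_dense (f := (MulAut.conj g * φ).toMonoidHom)
        (g := MonoidHom.id Q) hgen (by
          rintro w (rfl | rfl)
          · exact h.2
          · exact h.1)
      exact MulEquiv.ext fun w => DFunLike.congr_fun h' w
    rw [eq_inv_of_mul_eq_one_right he]
    exact inv_mem ⟨g, rfl⟩
  rw [Cfsg.Out, ← Subgroup.index_eq_card, show Cfsg.Inn Q = ⊤ from eq_top_iff.2 fun φ _ => hall φ,
    Subgroup.index_top]

end CfsgLib.Leech.OutOne
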