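import Cfsg.Agent.Lib.Leech.OutOne.Cert
import Cfsg.Agent.Lib.Leech.Simple

/-!
The simple quotient of the isometry group, acting on classes.
-/

set_option autoImplicit false
set_option maxRecDepth 10000

namespace CfsgLib.Leech.OutOne

open Cfsg CfsgLib.Golay CfsgLib.Leech CfsgLib.Leech.Mult CfsgLib.Leech.OutStab

attribute [local irreducible] dL bL key keyL coord packB linL bits autOK

/-- the quotient by the centre -/
abbrev Q : Type := ↥Co0 ⧸ Subgroup.center ↥Co0

/-- the quotient map -/
noncomputable abbrev pr : ↥Co0 →* Q := QuotientGroup.mk' (Subgroup.center ↥Co0)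

/-- the action on classes is given by the table -/
def Rep0 (g : ↥Co0) (c : List ℕ) : Prop := ∀ k < 2 ^ 24, act g k = comb c k

theorem rep0_one : Rep0 1 pow2L := fun k hk => by rw [comb_pow2 hk]; exact act_one hk

theorem Rep0.mul {g h : ↥Co0} {c d : List ℕ} (hg : Rep0 g c) (hh : Rep0 h d) :
    Rep0 (g * h) (mulC c d) := fun k hk => by
  rw [act_mul, hg _ (act_lt _ _), hh k hk, mulC, comb_comb]

theorem Rep0.pow {g : ↥Co0} {c : List ℕ} (hg : Rep0 g c) : ∀ n : ℕ, Rep0 (g ^ n) (powC c n)
  | 0 => by rw [pow_zero]; exact rep0_one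
  | n + 1 => by rw [pow_succ']; exact hg.mul (Rep0.pow hg n)

theorem Rep0.word {x c : ↥Co0} {tx tc : List ℕ} (hx : Rep0 x tx) (hc : Rep0 c tc) :
    ∀ w : List ℕ, Rep0 ((w.map fun a => x ^ a * c).prod) (wordTab tx tc w)
  | [] => rep0_one
  | a :: w => by
    simp only [List.map_cons, List.prod_cons, wordTab, List.foldr_cons]
    exact ((hx.pow a).mul hc).mul (Rep0.word hx hc w)

theorem act_negAut {k : ℕ} (hk : k < 2 ^ 24) : act negAut k = k := by
  rw [act, negAut_smul]
  exact (key_neg (vecOf_mem k)).trans (key_vecOf hk)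

theorem act_center {z : ↥Co0} (hz : z ∈ Subgroup.center ↥Co0) {k : ℕ} (hk : k < 2 ^ 24) : act z k = k := by
  rw [← SetLike.mem_coe, center_eq] at hz
  rcases hz with h | h
  · rw [h, act_one hk]
  · rw [show z = negAut from h, act_negAut hk]

theorem act_eq_of_pr {g h : ↥Co0} (e : pr g = pr h) {k : ℕ} (hk : k < 2 ^ 24) : act g k = act h k := by
  have hz : h⁻¹ * g ∈ Subgroup.center ↥Co0 := QuotientGroup.eq.1 (Eq.symm e)
  conv_rhs => rw [← act_center hz hk, ← act_mul, mul_inv_cancel_left]

theorem pr_eq_of_rep {g h : ↥Co0} {c : List ℕ} (hg : Rep0 g c) (hh : Rep0 h c) : pr g = pr h :=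
  QuotientGroup.eq.2 (trivial_mod_two fun v => by
    rw [isDbl_sub_iff, ← act_key, act_mul, hh _ (key_lt _), ← hg _ (key_lt _), act_inv_act _ (key_lt _)])

theorem pr_ne_of_rep {g h : ↥Co0} {c d : List ℕ} (hg : Rep0 g c) (hh : Rep0 h d)
    (hd : diffT c d = true) : pr g ≠ pr h := by
  intro e
  simp only [diffT, List.any_eq_true, List.mem_range, bne_iff_ne] at hd
  obtain ⟨j, hj, hne⟩ := hd
  have hk : 2 ^ j < 2 ^ 24 := Nat.pow_lt_pow_right (by norm_num) hj
  exact hne ((hg _ hk).symm.trans ((act_eq_of_pr e hk).trans (hh _ hk)))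

/-- commuting modulo the centre with an element of odd order means commuting -/
theorem commute_of_pr {w x : ↥Co0} {n : ℕ} (hn : x ^ n = 1) (hodd : Odd n) (h : pr w * pr x = pr x * pr w) :
    Commute w x := by
  rw [← map_mul, ← map_mul] at h
  have hz : (x * w)⁻¹ * (w * x) ∈ Subgroup.center ↥Co0 := QuotientGroup.eq.1 h.symm
  set z := (x * w)⁻¹ * (w * x) with hzdef
  have hwx : w * x = x * w * z := by rw [hzdef, mul_inv_cancel_left]
  have hzc : ∀ g : ↥Co0, g * z = z * g := Subgroup.mem_center_iff.1 hz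
  have hconj : w * x * w⁻¹ = x * z := by rw [hwx, mul_assoc x w z, hzc w, ← mul_assoc, mul_inv_cancel_right]
  have hzn : z ^ n = 1 := by
    have h1 := congrArg (· ^ n) hconj
    simp only [conj_pow, hn, mul_one, mul_inv_cancel] at h1
    rw [(show Commute x z from hzc x).mul_pow, hn, one_mul] at h1
    exact h1.symm
  have hz1 : z = 1 := by
    rw [← SetLike.mem_coe, center_eq] at hz
    rcases hz with e | e
    · exact e
    · exfalso
      obtain ⟨m, hm⟩ := hodd
      have hsq : (negAut : ↥Co0) * negAut = 1 :=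
        aut_ext fun v => by rw [mul_smul, negAut_smul, negAut_smul, neg_neg, one_smul]
      rw [show z = negAut from e, hm, pow_succ, pow_mul, sq, hsq, one_pow, one_mul] at hzn
      exact negAut_ne_one hzn
  show w * x = x * w
  rw [hwx, hz1, mul_one]

/-- the rotation as a monomial element -/
theorem rep_mono {P m : ℕ} (hP : inM24 P = true) (hm : inC m = true) {σ : Equiv.Perm GolayPt}
    (e : toPerm P = σ) (hσ : σ ∈ M24) {d : Finset GolayPt} (hd : d ∈ CS) (ed : dec m = d) :
    Rep0 (mono hσ hd) (monoTab P m) := by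
  intro k hk
  subst e
  subst ed
  exact act_mono hP hm hk hσ hd

theorem rep_nil {P : ℕ} (hP : inM24 P = true) {σ : Equiv.Perm GolayPt} (e : toPerm P = σ) (hσ : σ ∈ M24) :
    Rep0 (mono hσ empty_mem_CS) (monoTab P 0) :=
  rep_mono hP (by decide +kernel) e hσ empty_mem_CS (by ext p; simp [mem_dec])

end CfsgLib.Leech.OutOne
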