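import Cfsg.Agent.Lib.Leech.OutOne.Basic

/-!
Centralizers of the two elements of prime order in the simple quotient.
-/

set_option autoImplicit false
set_option maxRecDepth 10000

namespace CfsgLib.Leech.OutOne

open Cfsg CfsgLib.Golay CfsgLib.Leech CfsgLib.Leech.Mult CfsgLib.Leech.OutStab CfsgLib.Golay.AutTwo
open scoped Pointwise

attribute [local irreducible] dL bL key keyL coord packB linL bits autOK

/-- the involution -/
noncomputable def gH (hb : baseOK = true) : ↥Co0 :=
  (linIso (W := wH) (by simp only [baseOK, Bool.and_eq_true] at hb; exact hb.1.1.1.1.1.1.1)).aut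

variable (hb : baseOK = true)

include hb in
theorem base_facts : mulC tY tX = mulC (powC tX 12) tY ∧ mulC tH tY = mulC tY tH ∧
    mulC tD tY = mulC tY tD ∧ inC oneD = true ∧ comb tH kCross ≠ kCross ∧
    powC tX 23 = pow2L ∧ powC tY 11 = pow2L := by
  simp only [baseOK, Bool.and_eq_true, beq_iff_eq, bne_iff_ne] at hb
  obtain ⟨⟨⟨⟨⟨⟨⟨-, h1⟩, h2⟩, h3⟩, h4⟩, h5⟩, h6⟩, h7⟩ := hb
  exact ⟨h1, h2, h3, h4, h5, h6, h7⟩

include hb in
theorem rep_gH : Rep0 (gH hb) tH := fun _ hk => act_lin _ hk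

theorem rep_seed : Rep0 seed tX :=
  rep_nil shiftP_ok.1 shiftP_ok.2 shiftσ_mem

theorem rep_seed11 : Rep0 seed11 tY := rep_nil elt22_ok.1 rfl dblσ_mem_M24

theorem idQ_ok : inM24 idQ = true ∧ toPerm idQ = 1 := by
  refine ⟨by decide +kernel, ?_⟩
  rw [show idQ = powP elt22 0 by decide +kernel, (toPerm_powP elt22_ok.2.2 0).2, pow_zero]

theorem rep_sign {m : ℕ} (hm : inC m = true) (hd : dec m ∈ CS) :
    Rep0 (mono (one_mem M24) hd) (monoTab idQ m) :=
  rep_mono idQ_ok.1 hm idQ_ok.2 _ hd rfl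

include hb in
theorem oneD_CS : dec oneD ∈ CS :=
  mem_supports_codeList.2 ⟨oneD, inC_iff_mem_codeList.1 (base_facts hb).2.2.2.1, rfl⟩

/-- the sign change on the invariant dodecad -/
noncomputable def gD : ↥Co0 := mono (one_mem M24) (oneD_CS hb)

include hb in
theorem rep_gD : Rep0 (gD hb) tD := rep_sign (base_facts hb).2.2.2.1 _

include hb in
theorem gens_pow : pr seed ^ 23 = 1 ∧ pr seed11 ^ 11 = 1 ∧ seed11 ^ 11 = 1 := by
  obtain ⟨-, -, -, -, -, h6, h7⟩ := base_facts hb
  refine ⟨?_, ?_, ?_⟩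
  · rw [← map_pow, ← map_one pr]
    exact pr_eq_of_rep (rep_seed.pow 23) (h6.symm ▸ rep0_one)
  · rw [← map_pow, ← map_one pr]
    exact pr_eq_of_rep (rep_seed11.pow 11) (h7.symm ▸ rep0_one)
  · rw [← orderOf_seed11]; exact pow_orderOf_eq_one _

theorem sign_univ_pr (h : (Finset.univ : Finset GolayPt) ∈ CS) : pr (mono (one_mem M24) h) = 1 := by
  have : mono (one_mem M24) h = negAut := aut_ext fun v => Subtype.ext (funext fun i => by
    rw [negAut_smul, mono_apply, if_pos (Finset.mem_univ i)]; rfl)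
  rw [this]
  exact (QuotientGroup.eq_one_iff _).2 negAut_mem_center

theorem pr_sign_congr {d e : Finset GolayPt} (hd : d ∈ CS) (he : e ∈ CS) (h : d = e) :
    pr (mono (one_mem M24) hd) = pr (mono (one_mem M24) he) := by subst h; rfl

/-- a monomial element commuting with a rotation is a power times an invariant sign change -/
theorem commute_mono {σ : Equiv.Perm GolayPt} (hσ : σ ∈ M24) {w : ↥Co0} (hw : w ∈ crossStab)
    (hc : Commute w (mono hσ empty_mem_CS))
    (hcent : ∀ τ ∈ M24, τ * σ = σ * τ → ∃ i : ℕ, τ = σ ^ i) :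
    ∃ (i : ℕ) (e : Finset GolayPt) (he : e ∈ CS),
      w = mono hσ empty_mem_CS ^ i * mono (one_mem M24) he ∧ σ⁻¹ • e = e := by
  obtain ⟨τ, d, hτ, hd, hwd⟩ := crossStab_eq_mono hw
  obtain ⟨e1, he1, h1⟩ := mono_mul_perm hτ hd hσ empty_mem_CS
  obtain ⟨e2, he2, h2⟩ := mono_mul_perm hσ empty_mem_CS hτ hd
  have hcomm : τ * σ = σ * τ := by
    have h := hc.eq
    rw [hwd, h1, h2] at h
    exact (perm_unique h).symm
  obtain ⟨i, hi⟩ := hcent τ hτ hcomm
  have hp : ∀ n : ℕ, (mono hσ empty_mem_CS : ↥Co0) ^ n = mono (pow_mem hσ n) empty_mem_CS := by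
    intro n
    induction n with
    | zero => rw [pow_zero, one_eq_mono]; congr 1
    | succ n ih => rw [pow_succ', ih, mono_mul_nil]; congr 1; exact (pow_succ _ _).symm
  set v := ((mono hσ empty_mem_CS : ↥Co0) ^ i)⁻¹ * w with hv
  obtain ⟨τ', e, hτ', he, hve⟩ := crossStab_eq_mono
    (mul_mem (inv_mem (pow_mem (mono_mem_crossStab hσ empty_mem_CS) i)) hw : v ∈ crossStab)
  replace hve : v = mono hτ' he := hve
  have hmul : (mono hσ empty_mem_CS : ↥Co0) ^ i * v = w := by rw [hv, mul_inv_cancel_left]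
  have hτ1 : τ' = 1 := by
    have h := hmul
    rw [hp, hve] at h
    obtain ⟨e3, he3, h3⟩ := mono_mul_perm (pow_mem hσ i) empty_mem_CS hτ' he
    rw [h3, hwd] at h
    have h4 := perm_unique h
    rw [hi] at h4
    exact mul_eq_right.1 h4
  subst hτ1
  refine ⟨i, e, he, by rw [← hve, hmul], ?_⟩
  have hvc : Commute v (mono hσ empty_mem_CS) :=
    (((Commute.refl _).pow_left i).inv_left).mul_left hc
  have he' : σ⁻¹ • e ∈ CS := smul_mem_supports (inv_mem hσ) he
  have h := hvc.eq
  rw [hve, mono_mul_sign hσ empty_mem_CS he he'] at h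
  exact ((mono_inj (mul_right_cancel h)).2).symm

theorem inv_bits {m P : ℕ} (hP : validP P = true) (h : (toPerm P)⁻¹ • dec m = dec m) :
    ∀ i < 24, m.testBit i = m.testBit (ap P i) := by
  intro i hi
  have hi' : pt i ∈ (toPerm P)⁻¹ • dec m ↔ toPerm P (pt i) ∈ dec m := by
    rw [Finset.mem_inv_smul_finset_iff, Equiv.Perm.smul_def]
  rw [h, mem_dec, mem_dec, idx_toPerm hP, idx_pt i hi] at hi'
  exact Bool.eq_iff_iff.2 hi'

variable (hi : invOK = true)

include hi in
theorem inv_cases {m : ℕ} (hm : m ∈ codeList) :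
    ((∀ i < 24, m.testBit i = m.testBit (ap OutStab.shiftP i)) → m = 0 ∨ m = fullMask) ∧
    ((∀ i < 24, m.testBit i = m.testBit (ap elt22 i)) →
      m = 0 ∨ m = fullMask ∨ m = oneD ∨ m = oneD ^^^ fullMask) := by
  simp only [invOK, List.all_eq_true, Bool.and_eq_true, Bool.or_eq_true, List.any_eq_true, List.mem_range,
    bne_iff_ne, beq_iff_eq] at hi
  obtain ⟨h1, h2⟩ := hi m hm
  constructor <;> intro h
  · rcases h1 with (⟨i, hi, hne⟩ | h1) | h1
    exacts [absurd (h i hi) hne, Or.inl h1, Or.inr h1]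
  · rcases h2 with (((⟨i, hi, hne⟩ | h2) | h2) | h2) | h2
    exacts [absurd (h i hi) hne, Or.inl h2, Or.inr (Or.inl h2), Or.inr (Or.inr (Or.inl h2)),
      Or.inr (Or.inr (Or.inr h2))]

theorem cent_shift (τ : Equiv.Perm GolayPt) (_ : τ ∈ M24) (hcomm : τ * shiftσ = shiftσ * τ) :
    ∃ i : ℕ, τ = shiftσ ^ i := by
  have hn : τ none = none := by
    have h := Equiv.ext_iff.1 hcomm none
    rw [Equiv.Perm.mul_apply, Equiv.Perm.mul_apply, shiftσ_none] at h
    cases hn : τ none with
    | none => rfl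
    | some a =>
      rw [hn, shiftσ_some] at h
      have := Option.some.inj h
      exact absurd (add_left_cancel (a := a) (b := 0) (c := 1) (by rw [add_zero]; exact this)) (by decide)
  obtain ⟨c, hc0⟩ : ∃ c, τ (some 0) = some c := by
    cases h : τ (some 0) with
    | none => exact absurd (τ.injective (h.trans hn.symm)) (Option.some_ne_none _)
    | some c => exact ⟨c, rfl⟩
  refine ⟨c.val, Equiv.ext fun p => ?_⟩
  have hcn : ∀ k : ℕ, Commute τ (shiftσ ^ k) := fun k => Commute.pow_right hcomm k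
  cases p with
  | none => rw [hn, Equiv.Perm.pow_apply_eq_self_of_apply_eq_self shiftσ_none]
  | some a =>
    have h := Equiv.ext_iff.1 (hcn a.val).eq (some 0)
    rw [Equiv.Perm.mul_apply, Equiv.Perm.mul_apply, shiftσ_pow, hc0, shiftσ_pow, zero_add,
      ZMod.natCast_zmod_val] at h
    rw [h, shiftσ_pow, ZMod.natCast_zmod_val, add_comm]

include hb hi in
theorem cent_X (w : Q) (hw : w * pr seed = pr seed * w) : w ∈ Subgroup.zpowers (pr seed) := by
  obtain ⟨w, rfl⟩ := QuotientGroup.mk'_surjective _ w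
  have hc : Commute w seed :=
    commute_of_pr (n := 23) (by rw [← orderOf_seed]; exact pow_orderOf_eq_one _) (by decide) hw
  obtain ⟨i, e, he, hwe, hinv⟩ := commute_mono shiftσ_mem
    (normalizer_le_crossStab (normalizer_of_commute hc.symm)) hc cent_shift
  obtain ⟨m, hm, rfl⟩ := mem_supports_codeList.1 he
  refine Subgroup.mem_zpowers_iff.2 ⟨i, ?_⟩
  have hsig : pr (mono (one_mem M24) he) = 1 := by
    have hb' := inv_bits (show validP OutStab.shiftP = true by decide +kernel)
      (m := m) (by rw [shiftP_ok.2]; exact hinv)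
    rcases (inv_cases hi hm).1 hb' with h | h
    · rw [pr_sign_congr he empty_mem_CS (by rw [h]; ext p; simp [mem_dec]), ← one_eq_mono, map_one]
    · have hu : dec m = Finset.univ := by rw [h, dec_fullMask]
      rw [pr_sign_congr he (hu ▸ he) hu, sign_univ_pr]
  rw [zpow_natCast, hwe, map_mul, hsig, mul_one, ← map_pow]
  rfl

variable (hf : fixOK = true)

include hf in
theorem fixed_class (g : ↥Co0) (hfix : comb tY (act g (mainK 3)) = act g (mainK 3)) :
    ∃ i < 3, act g (mainK 3) = comb (uTab i) kCross := by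
  simp only [fixOK, Bool.and_eq_true, beq_iff_eq, List.contains_iff_mem, List.all_eq_true,
    Bool.or_eq_true, List.any_eq_true, List.mem_range, decide_eq_true_eq] at hf
  obtain ⟨⟨⟨⟨h1, h2⟩, h3⟩, hlen⟩, h5⟩ := hf
  set k := act g (mainK 3) with hk
  have hk24 : k < 2 ^ 24 := act_lt _ _
  have hP : comb oneP k = k := by
    have := congrArg (fun c => comb c k) h1
    simp only [mulC, comb_comb, hfix, comb_xorL, comb_pow2 hk24] at this
    have h6 : comb oneA k ^^^ comb oneA k = comb oneA k ^^^ (comb oneA k ^^^ k ^^^ comb oneP k) := by rw [← this]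
    rw [Nat.xor_self, Nat.xor_assoc, ← Nat.xor_assoc, Nat.xor_self, Nat.zero_xor] at h6
    exact (Nat.xor_eq_zero_iff.1 h6.symm).symm
  have hclosed : ∀ (l : List ℕ), (∀ p ∈ l, p ∈ oneP) → ∀ m, comb l m ∈ oneF := by
    intro l
    induction l with
    | nil => intro _ m; exact h2
    | cons p l ih =>
      intro hl m
      simp only [comb]
      have hr := ih (fun q hq => hl q (List.mem_cons_of_mem _ hq)) (m / 2)
      by_cases hm : m % 2 = 1
      · rcases h3 p (hl p List.mem_cons_self) with h | h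
        · simpa [hm, h] using hr
        · simpa [hm] using h _ hr
      · simpa [hm] using hr
  obtain ⟨i, hi', hik⟩ := List.mem_iff_getElem.1 (hP ▸ hclosed oneP (fun p hp => hp) k : k ∈ oneF)
  have hl5 := h5 (oneF[i], oneWits[i]'(hlen.symm ▸ hi'))
    (List.mem_iff_getElem.2 ⟨i, by simp [List.length_zip, hlen, hi'], by simp⟩)
  rw [hik] at hl5
  dsimp only at hl5
  generalize oneWits[i]'(hlen.symm ▸ hi') = l at hl5
  rcases hl5 with ⟨j, hj, h⟩ | ⟨⟨hl1, hl2⟩, hlt⟩
  · exact ⟨j, hj, h⟩
  · exfalso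
    set v : ↥leechLattice := ⟨vec l, vec_mem hl1⟩ with hv
    have hvk : key (v : GolayPt → ℤ) = k := (keyL_eq (inL_length hl1)).trans hl2
    have hu : key ((g • eightL none : ↥leechLattice) : GolayPt → ℤ) = k := by
      rw [hk, mainK_three none]
      exact (act_key g (eightL none)).symm
    have hun : sqNorm ((g • eightL none : ↥leechLattice) : GolayPt → ℤ) = 64 :=
      (sqNorm_smul _ _).trans (sqNorm_eight none)
    have hvn : sqNorm (v : GolayPt → ℤ) = dotL l l := sqNorm_vec (inL_length hl1)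
    have := sqNorm_eq_of_key (Subtype.prop v) (Subtype.prop _) (by rw [hvn]; omega) hun.le (hvk.trans hu.symm)
    rw [hun, hvn] at this
    omega

/-- the representatives -/
noncomputable def gU (i : ℕ) : ↥Co0 := if i = 0 then 1 else if i = 1 then gH hb else gD hb * gH hb

include hb in
theorem rep_gU (i : ℕ) : Rep0 (gU hb i) (uTab i) := by
  unfold gU uTab
  split_ifs
  exacts [rep0_one, rep_gH hb, (rep_gD hb).mul (rep_gH hb)]

include hb in
theorem gU_comm (i : ℕ) : pr (gU hb i) * pr seed11 = pr seed11 * pr (gU hb i) := by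
  obtain ⟨-, h2, h3, -⟩ := base_facts hb
  have hH : pr (gH hb) * pr seed11 = pr seed11 * pr (gH hb) := by
    rw [← map_mul, ← map_mul]
    exact pr_eq_of_rep ((rep_gH hb).mul rep_seed11) (h2.symm ▸ rep_seed11.mul (rep_gH hb))
  have hD : pr (gD hb) * pr seed11 = pr seed11 * pr (gD hb) := by
    rw [← map_mul, ← map_mul]
    exact pr_eq_of_rep ((rep_gD hb).mul rep_seed11) (h3.symm ▸ rep_seed11.mul (rep_gD hb))
  unfold gU
  split_ifs
  · rw [map_one, one_mul, mul_one]
  · exact hH
  · rw [map_mul]; exact (Commute.mul_left (hD : Commute (pr (gD hb)) (pr seed11)) hH).eq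

include hb hi hf in
/-- the elements commuting with the element of order eleven -/
theorem cent_Y (w : Q) (hw : w * pr seed11 = pr seed11 * w) :
    ∃ i < 3, ∃ s < 2, ∃ j < 11, w = pr (gU hb i) * pr (gD hb) ^ s * pr seed11 ^ j := by
  obtain ⟨-, h11, hY11⟩ := gens_pow hb
  obtain ⟨w, rfl⟩ := QuotientGroup.mk'_surjective _ w
  have hY3 : act seed11 (mainK 3) = mainK 3 :=
    mem_crossStab.1 (mono_mem_crossStab dblσ_mem_M24 empty_mem_CS)
  have hfix : comb tY (act w (mainK 3)) = act w (mainK 3) := by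
    rw [← rep_seed11 _ (act_lt _ _), ← act_mul,
      act_eq_of_pr (g := seed11 * w) (h := w * seed11) (by rw [map_mul, map_mul]; exact hw.symm) (mainK_lt 3),
      act_mul, hY3]
  obtain ⟨i, hi3, hik⟩ := fixed_class hf w hfix
  set v := (gU hb i)⁻¹ * w with hv
  have hvX : v ∈ crossStab := by
    rw [mem_crossStab, hv, act_mul, hik, ← rep_gU hb i kCross (by rw [kCross, ← key_e8L]; exact mainK_lt 3),
      kCross, ← key_e8L]
    exact act_inv_act _ (mainK_lt 3)
  have hvc : Commute v seed11 := by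
    refine commute_of_pr (n := 11) hY11 (by decide) ?_
    rw [map_mul, map_inv]
    exact (Commute.mul_left ((show Commute (pr (gU hb i)) (pr seed11) from gU_comm hb i).inv_left) hw).eq
  obtain ⟨n, e, he, hve, hinv⟩ := commute_mono dblσ_mem_M24 hvX hvc fun τ hτ hc => by
    obtain ⟨r, hr⟩ := (isOfFinOrder_of_finite (toPerm elt22)).mem_powers_iff_mem_zpowers.2
      (cent_of_conjOK cent22 hτ hc)
    exact ⟨r, hr.symm⟩
  obtain ⟨m, hm, rfl⟩ := mem_supports_codeList.1 he
  have hD : pr seed11 * pr (gD hb) = pr (gD hb) * pr seed11 := by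
    rw [← map_mul, ← map_mul]
    exact pr_eq_of_rep (rep_seed11.mul (rep_gD hb)) ((base_facts hb).2.2.1 ▸ (rep_gD hb).mul rep_seed11)
  have hsig : ∃ s < 2, pr (mono (one_mem M24) he) = pr (gD hb) ^ s := by
    have hb' := inv_bits elt22_ok.2.2 (m := m) hinv
    have hfull : inC fullMask = true := by decide +kernel
    have hfu : dec fullMask ∈ CS := mem_supports_codeList.2 ⟨_, inC_iff_mem_codeList.1 hfull, rfl⟩
    rcases (inv_cases hi hm).2 hb' with h | h | h | h
    · exact ⟨0, by norm_num, by rw [pow_zero, pr_sign_congr he empty_mem_CS (by rw [h]; ext p; simp [mem_dec]),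
        ← one_eq_mono, map_one]⟩
    · refine ⟨0, by norm_num, ?_⟩
      have hu : dec m = Finset.univ := by rw [h, dec_fullMask]
      rw [pow_zero, pr_sign_congr he (hu ▸ he) hu, sign_univ_pr]
    · exact ⟨1, by norm_num, by rw [pow_one]; exact pr_sign_congr he _ (by rw [h])⟩
    · refine ⟨1, by norm_num, ?_⟩
      have hx : dec m = symmDiff (dec oneD) (dec fullMask) := by rw [h, dec_xor]
      rw [pow_one, pr_sign_congr he (symmDiff_mem_supports (oneD_CS hb) hfu) hx, ← sign_mul (oneD_CS hb) hfu,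
        map_mul, pr_sign_congr hfu (dec_fullMask ▸ hfu) dec_fullMask, sign_univ_pr, mul_one]
      rfl
  obtain ⟨s, hs2, hse⟩ := hsig
  refine ⟨i, hi3, s, hs2, n % 11, Nat.mod_lt _ (by norm_num), ?_⟩
  have hww : w = gU hb i * v := by rw [hv, mul_inv_cancel_left]
  rw [← pow_eq_pow_mod n h11]
  have hvv : pr v = pr seed11 ^ n * pr (gD hb) ^ s := by rw [hve, map_mul, hse, map_pow]; rfl
  rw [hww, map_mul, hvv, mul_assoc, ((show Commute (pr seed11) (pr (gD hb)) from hD).pow_pow n s).eq]

end CfsgLib.Leech.OutOne
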