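import Cfsg.Agent.Lib.Leech.OutStab.Rigid
import Cfsg.Agent.Lib.Leech.OutOne.Data

/-!
The checks for the automorphisms of the simple quotient of the isometry group.
-/

set_option autoImplicit false
set_option maxRecDepth 10000

namespace CfsgLib.Leech.OutOne

open Cfsg CfsgLib.Golay CfsgLib.Leech CfsgLib.Leech.Mult CfsgLib.Leech.OutStab

/-- the identity permutation, packed -/
def idQ : ℕ := powP 0 0

/-- the table of a signed permutation -/
def monoTab (Q m : ℕ) : List ℕ := bL.map fun l => keyL (monoL Q m l)

/-- the table of the element of order twenty-three -/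
def tX : List ℕ := permTab OutStab.shiftP

/-- the table of the element of order eleven -/
def tY : List ℕ := permTab elt22

/-- the table of the involution -/
def tH : List ℕ := wH.map keyL

/-- the table of the sign change on the invariant dodecad -/
def tD : List ℕ := monoTab idQ oneD

/-- the table at a position of the program -/
def tAt (i : ℕ) : List ℕ :=
  unpackC (((oneT.getD (i / 50) 0) >>> (576 * (i % 50))) % 2 ^ 576)

/-- the standard cross class -/
def kCross : ℕ := keyL e8L

/-- representatives of the orbit of the cross -/
def uTab (i : ℕ) : List ℕ := if i = 0 then pow2L else if i = 1 then tH else mulC tD tH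

/-- the elements commuting with the element of order eleven -/
def cTab (i s j : ℕ) : List ℕ := mulC (mulC (uTab i) (if s = 0 then pow2L else tD)) (powC tY j)

/-- the exponent with a given index -/
def kk (ki : ℕ) : ℕ := if ki = 0 then 1 else 22

/-- differing tables -/
def diffT (c d : List ℕ) : Bool := (List.range 24).any fun j => comb c (2 ^ j) != comb d (2 ^ j)

/-- the elements and relations -/
def baseOK : Bool :=
  autOK wH && mulC tY tX == mulC (powC tX 12) tY && mulC tH tY == mulC tY tH &&
    mulC tD tY == mulC tY tD && inC oneD && comb tH kCross != kCross &&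
    powC tX 23 == pow2L && powC tY 11 == pow2L

/-- the program -/
def progOK : Bool :=
  oneLen == oneProg.length + 2 && tAt 0 == tX && tAt 1 == tH &&
    ((List.range oneProg.length).zip oneProg).all fun z =>
      decide (z.2.1 < z.1 + 2) && decide (z.2.2 < z.1 + 2) && mulC (tAt z.2.1) (tAt z.2.2) == tAt (z.1 + 2)

/-- the three generators of the stabilizer of the cross -/
def goalsOK : Bool :=
  decide (oneGoals.1 < oneLen) && decide (oneGoals.2.1 < oneLen) && decide (oneGoals.2.2 < oneLen) &&
    inM24 invP && inM24 twistP && tAt oneGoals.1 == monoTab invP 0 && tAt oneGoals.2.1 == monoTab twistP 0 &&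
    tAt oneGoals.2.2 == monoTab idQ 13062145

/-- the fixed classes of the element of order eleven -/
def fixOK : Bool :=
  mulC oneA tY == xorL (xorL oneA pow2L) oneP && oneF.contains 0 &&
    oneP.all (fun p => p == 0 || oneF.all fun b => oneF.contains (p ^^^ b)) &&
    oneWits.length == oneF.length &&
    (oneF.zip oneWits).all (fun z => (List.range 3).any (fun i => z.1 == comb (uTab i) kCross) ||
      (inL z.2 && keyL z.2 == z.1 && decide (dotL z.2 z.2 < 64)))

/-- the candidate is the given pair, or a word separates it -/
def sepAt (ki i s j : ℕ) : Bool :=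
  (ki == 0 && i == 1 && s == 0 && j == 0) ||
    (powC (wordTab tX tH (oneSeps.getD (((ki * 3 + i) * 2 + s) * 11 + j) ([], 0)).1)
        (oneSeps.getD (((ki * 3 + i) * 2 + s) * 11 + j) ([], 0)).2 == pow2L &&
      diffT (powC (wordTab (powC tX (kk ki)) (cTab i s j)
          (oneSeps.getD (((ki * 3 + i) * 2 + s) * 11 + j) ([], 0)).1)
        (oneSeps.getD (((ki * 3 + i) * 2 + s) * 11 + j) ([], 0)).2) pow2L)

/-- all candidates -/
def sepsOK : Bool :=
  (List.range 2).all fun ki => (List.range 3).all fun i => (List.range 2).all fun s =>
    (List.range 11).all fun j => sepAt ki i s j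

/-- the invariant code words -/
def invOK : Bool :=
  codeList.all fun m =>
    (((List.range 24).any fun i => m.testBit i != m.testBit (ap OutStab.shiftP i)) || m == 0 || m == fullMask) &&
    (((List.range 24).any fun i => m.testBit i != m.testBit (ap elt22 i)) || m == 0 || m == fullMask ||
      m == oneD || m == oneD ^^^ fullMask)

end CfsgLib.Leech.OutOne
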